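import Groth.Agent.BlowAvoidLib.FT
import Groth.Agent.BlowExistsLib.Proper
import Groth.Agent.BlowCompLib.Flat

/-! Separating finitely many closed sets by a blow-up, and auxiliary facts on fibre products. -/

set_option autoImplicit false
universe u
open AlgebraicGeometry CategoryTheory CategoryTheory.Limits

namespace Groth.Agent.BlowAvoidLib

variable {X X' : Scheme.{u}}

/-- The complement of the support of a finite-type ideal on a quasi-compact scheme is quasi-compact. -/
theorem isCompact_compl_support [CompactSpace X] (I : X.IdealSheafData) (hI : ∀ V, (I.ideal V).FG) :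
    IsCompact (I.support : Set X)ᶜ := by
  classical
  have key : ∀ V : X.affineOpens, IsCompact ((V.1 : Set X) ∩ (I.support : Set X)ᶜ) := by
    intro V
    obtain ⟨s, hs⟩ := hI V
    have he : (V.1 : Set X) ∩ (I.support : Set X)ᶜ = ⋃ g ∈ s, (X.basicOpen g : Set X) := by
      ext x
      simp only [Set.mem_inter_iff, SetLike.mem_coe, Set.mem_compl_iff, Set.mem_iUnion, exists_prop]
      constructor
      · rintro ⟨hxV, hx⟩
        by_contra hc
        push Not at hc
        apply hx
        rw [Scheme.IdealSheafData.mem_support_iff_of_mem hxV, ← hs]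
        show x ∈ X.zeroLocus (U := V.1) (Ideal.span (s : Set Γ(X, V.1)) : Set Γ(X, V.1))
        rw [Scheme.zeroLocus_span, Scheme.mem_zeroLocus_iff]
        exact hc
      · rintro ⟨g, hg, hx⟩
        have hxV := X.basicOpen_le g hx
        refine ⟨hxV, fun hxs => ?_⟩
        rw [Scheme.IdealSheafData.mem_support_iff_of_mem hxV, Scheme.mem_zeroLocus_iff] at hxs
        exact hxs g (hs ▸ Ideal.subset_span hg) hx
    rw [he]
    exact s.isCompact_biUnion fun g _ => (V.2.basicOpen g).isCompact
  obtain ⟨t, ht⟩ := isCompact_univ.elim_finite_subcover (fun V : X.affineOpens => (V.1 : Set X))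
    (fun V => V.1.isOpen) (fun x _ => by
      obtain ⟨_, ⟨V, hV, rfl⟩, hx, -⟩ :=
        X.isBasis_affineOpens.exists_subset_of_mem_open (Set.mem_univ x) isOpen_univ
      exact Set.mem_iUnion.2 ⟨⟨V, hV⟩, hx⟩)
  have he : (I.support : Set X)ᶜ = ⋃ V ∈ t, (V.1 : Set X) ∩ (I.support : Set X)ᶜ := by
    ext x
    simp only [Set.mem_iUnion, Set.mem_inter_iff, exists_prop]
    refine ⟨fun hx => ?_, fun ⟨V, _, _, hx⟩ => hx⟩
    obtain ⟨V, hV, hxV⟩ := Set.mem_iUnion₂.1 (ht (Set.mem_univ x))
    exact ⟨V, hV, hxV, hx⟩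
  rw [he]
  exact t.isCompact_biUnion fun V _ => key V

/-- Closed sets with empty intersection lie in closed sets with quasi-compact complements and empty
intersection. -/
theorem exists_closed_cover [CompactSpace X] {ι : Type*} [Fintype ι] (F : ι → Set X)
    (hF : ∀ i, IsClosed (F i)) (h : ∀ x, ∃ i, x ∉ F i) :
    ∃ Z : ι → Set X, (∀ i, IsClosed (Z i) ∧ IsCompact (Z i)ᶜ ∧ F i ⊆ Z i) ∧ ∀ x, ∃ i, x ∉ Z i := by
  classical
  choose i hi using h
  have hK : ∀ x : X, ∃ V : X.affineOpens, x ∈ V.1 ∧ (V.1 : Set X) ⊆ (F (i x))ᶜ := fun x => by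
    obtain ⟨_, ⟨V, hV, rfl⟩, hx, hVF⟩ :=
      X.isBasis_affineOpens.exists_subset_of_mem_open (show x ∈ (F (i x))ᶜ from hi x) (hF _).isOpen_compl
    exact ⟨⟨V, hV⟩, hx, hVF⟩
  choose V hxV hVF using hK
  obtain ⟨t, ht⟩ := isCompact_univ.elim_finite_subcover (fun x : X => ((V x).1 : Set X))
    (fun x => (V x).1.isOpen) (fun x _ => Set.mem_iUnion.2 ⟨x, hxV x⟩)
  refine ⟨fun j => (⋃ x ∈ t.filter (fun x => i x = j), ((V x).1 : Set X))ᶜ, fun j => ⟨?_, ?_, ?_⟩, fun y => ?_⟩
  · exact (isOpen_biUnion fun x _ => (V x).1.isOpen).isClosed_compl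
  · rw [compl_compl]
    exact Finset.isCompact_biUnion _ fun x _ => (V x).2.isCompact
  · intro y hy hyU
    obtain ⟨x, hx, hyx⟩ := Set.mem_iUnion₂.1 hyU
    exact hVF x hyx ((Finset.mem_filter.1 hx).2 ▸ hy)
  · obtain ⟨x, hx, hyx⟩ := Set.mem_iUnion₂.1 (ht (Set.mem_univ y))
    exact ⟨i x, fun h => h (Set.mem_iUnion₂.2 ⟨x, Finset.mem_filter.2 ⟨hx, rfl⟩, hyx⟩)⟩

theorem fg_comap {Y : Scheme.{u}} (J : Y.IdealSheafData) (f : X ⟶ Y)
    (hJ : ∀ U : Y.affineOpens, (J.ideal U).FG) (V : X.affineOpens) : ((J.comap f).ideal V).FG := by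
  have key : ∀ x : V.1, ∃ r : Γ(X, V.1), x.1 ∈ X.basicOpen r ∧
      ((J.comap f).ideal (X.affineBasicOpen (U := V) r)).FG := fun x => by
    obtain ⟨_, ⟨U, hU, rfl⟩, hxU, -⟩ :=
      Y.isBasis_affineOpens.exists_subset_of_mem_open (Set.mem_univ (f x.1)) isOpen_univ
    obtain ⟨r, hr, hxr⟩ := V.2.exists_basicOpen_le (V := V.1 ⊓ f ⁻¹ᵁ U) ⟨x.1, x.2, hxU⟩ x.2
    exact ⟨r, hxr, by
      rw [IdealStalkLib.comap_ideal J f (U := U) hU (X.affineBasicOpen (U := V) r).2 (hr.trans inf_le_right)]
      exact (hJ ⟨U, hU⟩).map _⟩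
  choose r hxr hr using key
  refine Ideal.fg_of_localizationSpan (Set.range r) ?_ ?_
  · rw [← V.2.self_le_iSup_basicOpen_iff]
    exact fun x hxV => TopologicalSpace.Opens.mem_iSup.2 ⟨⟨_, ⟨x, hxV⟩, rfl⟩, hxr ⟨x, hxV⟩⟩
  · rintro ⟨_, x, rfl⟩
    letI : Algebra Γ(X, V.1) Γ(X, X.basicOpen (r x)) := (X.presheaf.map (homOfLE (X.basicOpen_le (r x))).op).hom.toAlgebra
    haveI : IsLocalization.Away (r x) Γ(X, X.basicOpen (r x)) := V.2.isLocalization_basicOpen (r x)
    let e := IsLocalization.algEquiv (Submonoid.powers (r x)) Γ(X, X.basicOpen (r x)) (Localization.Away (r x))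
    rw [show algebraMap Γ(X, V.1) (Localization.Away (r x)) =
      e.toAlgHom.toRingHom.comp (algebraMap Γ(X, V.1) Γ(X, X.basicOpen (r x))) from (AlgHom.comp_algebraMap e.toAlgHom).symm,
      ← Ideal.map_map, show algebraMap Γ(X, V.1) Γ(X, X.basicOpen (r x)) =
        (X.presheaf.map (homOfLE (X.basicOpen_le (r x))).op).hom from rfl, (J.comap f).map_ideal_basicOpen V (r x)]
    exact (hr x).map _

/-- Finitely many closed sets are separated by blowing up the sum of ideals cutting them out. -/
theorem exists_notMem_closure {ι : Type*} [Fintype ι] (A : ι → X.IdealSheafData)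
    (hE : BlowUp.IsEffCartierIdeal (⨆ i, A i)) (S : ι → Set X)
    (hA : ∀ i, S i ⊆ ((A i).support : Set X)) (hS : ∀ i, ∀ s ∈ S i, s ∉ (⨆ j, A j).support) (z : X) :
    ∃ i, z ∉ closure (S i) := by
  classical
  by_contra hc
  push Not at hc
  obtain ⟨Ω, hz, g, hg, hI⟩ := hE z
  have hgm : g ∈ ⨆ i, (A i).ideal Ω := by
    have h : g ∈ (⨆ i, A i).ideal Ω := hI ▸ Ideal.mem_span_singleton_self g
    rwa [Scheme.IdealSheafData.ideal_iSup, iSup_apply] at h
  rw [Submodule.mem_iSup_iff_exists_finsupp] at hgm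
  obtain ⟨a, ha, hsum⟩ := hgm
  rw [Finsupp.sum_fintype _ _ (fun _ => rfl)] at hsum
  have hk : ∀ i, ∃ k, k * g = a i := fun i =>
    Ideal.mem_span_singleton'.1 (hI ▸ (le_iSup A i : A i ≤ _) Ω (ha i))
  choose k hk using hk
  have hone : ∑ i, k i = 1 := (mul_cancel_right_mem_nonZeroDivisors hg).1
    (by rw [Finset.sum_mul, Finset.sum_congr rfl fun i _ => hk i, hsum, one_mul])
  refine one_notMem_offIdeal hz ?_
  rw [← hone]
  exact Ideal.sum_mem _ fun i _ =>
    mem_offIdeal_of_closure (A i) _ Ω hI (by rw [mul_comm, hk]; exact ha i) hz (S i) (hc i) (hA i) (hS i)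

/-- A morphism avoiding the centre lifts to the blow-up, and the lift of an open immersion is one. -/
theorem exists_lift_off_centre (I : X.IdealSheafData) (b : X' ⟶ X) (hb : BlowUp.IsBlowUp b I)
    {U : Scheme.{u}} (j : U ⟶ X) (hj : ∀ w, j w ∉ I.support) :
    ∃ l : U ⟶ X', l ≫ b = j ∧ (IsOpenImmersion j → IsOpenImmersion l) := by
  obtain ⟨l, hl, -⟩ := hb.2 U j (by
    rw [BlowCompLib.comap_eq_top I j hj]
    exact BlowCompLib.isEffCartier_top)
  refine ⟨l, hl, fun hji => ?_⟩
  let W : X'.Opens := (I.comap b).support.compl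
  haveI : IsOpenImmersion (W.ι ≫ b) := BlowCompLib.isOpenImmersion_off_exceptional I b hb
  have hr : Set.range l ⊆ Set.range W.ι := by
    rintro _ ⟨w, rfl⟩
    rw [Scheme.Opens.range_ι]
    show l w ∉ (I.comap b).support
    rw [Scheme.IdealSheafData.support_comap]
    intro h
    refine hj w ?_
    have h' : b (l w) ∈ I.support := h
    rwa [← Scheme.Hom.comp_apply, hl] at h'
  let l' := IsOpenImmersion.lift W.ι l hr
  have hl' : l' ≫ W.ι = l := IsOpenImmersion.lift_fac _ _ _
  haveI : IsOpenImmersion (l' ≫ W.ι ≫ b) := by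
    rw [← Category.assoc, hl', hl]; exact hji
  haveI : IsOpenImmersion l' := IsOpenImmersion.of_comp l' (W.ι ≫ b)
  rw [← hl']
  infer_instance

/-- A finite fibre product of proper schemes is proper. -/
theorem isProper_base {S : Scheme.{u}} : ∀ {n : ℕ} (Y : Fin n → Scheme.{u}) (g : ∀ i, Y i ⟶ S)
    (_ : ∀ i, IsProper (g i)), IsProper (WidePullback.base g) := by
  intro n
  induction n with
  | zero =>
    intro Y g _
    let j : S ⟶ widePullback S Y g := WidePullback.lift (𝟙 S) (fun i => i.elim0) (fun i => i.elim0)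
    haveI : IsIso (WidePullback.base g) :=
      ⟨j, WidePullback.hom_ext _ _ _ (fun i => i.elim0) (by
        rw [Category.assoc, WidePullback.lift_base, Category.comp_id, Category.id_comp]),
        WidePullback.lift_base ..⟩
    infer_instance
  | succ n ih =>
    intro Y g hg
    haveI := hg
    haveI := ih (fun i : Fin n => Y i.castSucc) (fun i : Fin n => g i.castSucc) (fun i : Fin n => hg _)
    let d : widePullback S Y g ⟶ widePullback S (fun i : Fin n => Y i.castSucc) (fun i : Fin n => g i.castSucc) :=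
      WidePullback.lift (WidePullback.base _) (fun i : Fin n => WidePullback.π g i.castSucc)
        (fun i : Fin n => WidePullback.π_arrow g i.castSucc)
    have w : d ≫ WidePullback.base (fun i : Fin n => g i.castSucc) =
        WidePullback.π g (Fin.last n) ≫ g (Fin.last n) := by
      rw [WidePullback.lift_base, WidePullback.π_arrow]
    have hpb : IsPullback d (WidePullback.π g (Fin.last n))
        (WidePullback.base fun i : Fin n => g i.castSucc) (g (Fin.last n)) := by
      refine IsPullback.of_isLimit' ⟨w⟩ (PullbackCone.IsLimit.mk w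
        (fun s => WidePullback.lift (s.fst ≫ WidePullback.base _)
          (fun i => Fin.lastCases (motive := fun i => s.pt ⟶ Y i) s.snd
            (fun i => s.fst ≫ WidePullback.π (fun i : Fin n => g i.castSucc) i) i)
          (fun i => by
            induction i using Fin.lastCases with
            | last => rw [Fin.lastCases_last, s.condition]
            | cast i => rw [Fin.lastCases_castSucc, Category.assoc, WidePullback.π_arrow]))
        (fun s => WidePullback.hom_ext _ _ _ (fun i => ?_) ?_) (fun s => ?_)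
        (fun s m h1 h2 => WidePullback.hom_ext _ _ _ (fun i => ?_) ?_))
      · rw [Category.assoc, WidePullback.lift_π, WidePullback.lift_π, Fin.lastCases_castSucc]
      · rw [Category.assoc, WidePullback.lift_base, WidePullback.lift_base]
      · rw [WidePullback.lift_π, Fin.lastCases_last]
      · rw [WidePullback.lift_π]
        induction i using Fin.lastCases with
        | last => rw [Fin.lastCases_last, h2]
        | cast i => rw [Fin.lastCases_castSucc, ← h1, Category.assoc, WidePullback.lift_π]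
      · rw [WidePullback.lift_base, ← h1, Category.assoc, WidePullback.lift_base]
    haveI : IsProper d := MorphismProperty.of_isPullback hpb.flip (hg (Fin.last n))
    rw [show WidePullback.base g = d ≫ WidePullback.base (fun i : Fin n => g i.castSucc) from
      (WidePullback.lift_base ..).symm]
    infer_instance

end Groth.Agent.BlowAvoidLib
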