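import Groth.Agent.BlowCompLib.Flat

/-! Closures of strict transforms avoiding each other: local ideal arguments. -/

universe u
open AlgebraicGeometry CategoryTheory

namespace Groth.Agent.BlowAvoidLib

variable {X Z : Scheme.{u}}

/-- Sections over `U` which are not invertible at `x`. -/
noncomputable def offIdeal (U : X.Opens) (x : X) (hx : x ∈ U) : Ideal Γ(X, U) :=
  (IsLocalRing.maximalIdeal (X.presheaf.stalk x)).comap (X.presheaf.germ U x hx).hom

theorem mem_offIdeal {U : X.Opens} {x : X} {hx : x ∈ U} {k : Γ(X, U)} :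
    k ∈ offIdeal U x hx ↔ x ∉ X.basicOpen k := by
  rw [offIdeal, Ideal.mem_comap, IsLocalRing.mem_maximalIdeal, mem_nonunits_iff, Scheme.mem_basicOpen X k x hx]

theorem one_notMem_offIdeal {U : X.Opens} {x : X} (hx : x ∈ U) : (1 : Γ(X, U)) ∉ offIdeal U x hx := by
  rw [offIdeal, Ideal.mem_comap, map_one]
  exact (Ideal.ne_top_iff_one _).1 (IsLocalRing.maximalIdeal.isMaximal _).ne_top

theorem ideal_le_offIdeal (I : X.IdealSheafData) (U : X.affineOpens) {x : X} (hx : x ∈ U.1) (hs : x ∈ I.support) :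
    I.ideal U ≤ offIdeal U.1 x hx := fun k hk => mem_offIdeal.2 fun hb => by
  have h : x ∈ (I.support : Set X) ∩ U.1 := ⟨hs, hx⟩
  rw [Scheme.IdealSheafData.coe_support_inter] at h
  exact (Scheme.mem_zeroLocus_iff X _ x).1 h.1 k hk hb

theorem generator_mem_basicOpen (E : X.IdealSheafData) (U : X.affineOpens) {g : Γ(X, U.1)}
    (hg : E.ideal U = Ideal.span {g}) {x : X} (hx : x ∈ U.1) (hs : x ∉ E.support) : x ∈ X.basicOpen g := by
  by_contra hb
  refine hs ?_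
  have h : x ∈ X.zeroLocus (U := U.1) (E.ideal U) ∩ U.1 := by
    refine ⟨(Scheme.mem_zeroLocus_iff X _ x).2 fun f hf => ?_, hx⟩
    rw [hg] at hf
    obtain ⟨c, rfl⟩ := Ideal.mem_span_singleton'.1 hf
    exact mem_offIdeal.1 (Ideal.mul_mem_left _ c ((mem_offIdeal (hx := hx)).2 hb))
  rw [← Scheme.IdealSheafData.coe_support_inter] at h
  exact h.1

/-- If `g * k` lies in the ideal of `A` and `g` is invertible along `S ⊆ V(A)`, then `k` vanishes on the closure
of `S`. -/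
theorem mem_offIdeal_of_closure (A E : X.IdealSheafData) (U : X.affineOpens) {g k : Γ(X, U.1)}
    (hg : E.ideal U = Ideal.span {g}) (h : g * k ∈ A.ideal U) {x : X} (hx : x ∈ U.1) (S : Set X)
    (hxS : x ∈ closure S) (hA : S ⊆ (A.support : Set X)) (hE : ∀ s ∈ S, s ∉ E.support) :
    k ∈ offIdeal U.1 x hx := mem_offIdeal.2 fun hb => by
  obtain ⟨s, hsk, hsS⟩ := mem_closure_iff.1 hxS _ (X.basicOpen k).isOpen hb
  have hsU : s ∈ U.1 := X.basicOpen_le k hsk
  refine mem_offIdeal.1 (ideal_le_offIdeal A U hsU (hA hsS) h) ?_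
  rw [Scheme.basicOpen_mul]
  exact ⟨generator_mem_basicOpen E U hg hsU (hE s hsS), hsk⟩

theorem mem_basicOpen_appLE (p : Z ⟶ X) {U : X.Opens} {W : Z.Opens} (hW : W ≤ p ⁻¹ᵁ U) (k : Γ(X, U)) {z : Z}
    (hz : z ∈ W) : z ∈ Z.basicOpen ((p.appLE U W hW).hom k) ↔ p z ∈ X.basicOpen k := by
  rw [Scheme.basicOpen_appLE]
  exact ⟨fun h => h.2, fun h => ⟨hz, h⟩⟩

theorem map_offIdeal (p : Z ⟶ X) {U : X.Opens} {W : Z.Opens} (hW : W ≤ p ⁻¹ᵁ U) {z : Z}
    (hz : z ∈ W) : (offIdeal U (p z) (hW hz)).map (p.appLE U W hW).hom ≤ offIdeal W z hz := by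
  refine Ideal.map_le_iff_le_comap.2 fun k hk => ?_
  rw [Ideal.mem_comap, mem_offIdeal, mem_basicOpen_appLE p hW k hz]
  exact mem_offIdeal.1 hk

/-- If `A ≤ E` with `E` principal, generated by `g`, and `g` is invertible along a subset of `V(A)` whose closure
contains `p z`, then near `z` the pullback of `A` lies in `g` times the sections vanishing at `z`. -/
theorem ideal_comap_le_mul (A E : X.IdealSheafData) (hAE : A ≤ E) (p : Z ⟶ X) (U : X.affineOpens)
    (W : Z.affineOpens) (hW : W.1 ≤ p ⁻¹ᵁ U.1) {g : Γ(X, U.1)} (hg : E.ideal U = Ideal.span {g})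
    {z : Z} (hz : z ∈ W.1) (S : Set X) (hzS : p z ∈ closure S) (hA : S ⊆ (A.support : Set X))
    (hE : ∀ s ∈ S, s ∉ E.support) :
    (A.comap p).ideal W ≤ Ideal.span {(p.appLE U.1 W.1 hW).hom g} * offIdeal W.1 z hz := by
  rw [IdealStalkLib.comap_ideal A p U.2 W.2 hW, Ideal.map_le_iff_le_comap]
  intro a ha
  obtain ⟨k, hk⟩ := Ideal.mem_span_singleton'.1 (hg ▸ hAE U ha)
  have hk' : k ∈ offIdeal U.1 (p z) (hW hz) :=
    mem_offIdeal_of_closure A E U hg (by rw [mul_comm, hk]; exact ha) (hW hz) S hzS hA hE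
  rw [Ideal.mem_comap, ← hk, mul_comm k g, map_mul]
  exact Ideal.mul_mem_mul (Ideal.mem_span_singleton_self _) (map_offIdeal p hW hz (Ideal.mem_map_of_mem _ hk'))

/-- If `g * c` lies in the ideal of `B` with `c` invertible at `z`, and `g` is invertible along `S ⊆ V(B)`,
then `z` is not in the closure of `S`. -/
theorem notMem_closure (E : X.IdealSheafData) (B : Z.IdealSheafData) (p : Z ⟶ X) (U : X.affineOpens)
    (W : Z.affineOpens) (hW : W.1 ≤ p ⁻¹ᵁ U.1) {g : Γ(X, U.1)} (hg : E.ideal U = Ideal.span {g})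
    {z : Z} (hz : z ∈ W.1) {c : Γ(Z, W.1)} (hc : c ∉ offIdeal W.1 z hz)
    (h : (p.appLE U.1 W.1 hW).hom g * c ∈ B.ideal W) (S : Set Z) (hB : S ⊆ (B.support : Set Z))
    (hE : ∀ s ∈ S, p s ∉ E.support) : z ∉ closure S := fun hzS => by
  have hcz : z ∈ Z.basicOpen c := by
    by_contra h'; exact hc (mem_offIdeal.2 h')
  obtain ⟨s, hsc, hsS⟩ := mem_closure_iff.1 hzS _ (Z.basicOpen c).isOpen hcz
  have hsW : s ∈ W.1 := Z.basicOpen_le c hsc
  refine mem_offIdeal.1 (ideal_le_offIdeal B W hsW (hB hsS) h) ?_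
  rw [Scheme.basicOpen_mul]
  exact ⟨(mem_basicOpen_appLE p hW g hsW).2 (generator_mem_basicOpen E U hg (hW hsW) (hE s hsS)), hsc⟩

/-- A chart around `z`: an affine open of `X` on which the Cartier ideal is principal and an affine open
of `Z` over it. -/
theorem exists_chart (E : X.IdealSheafData) (hE : BlowUp.IsEffCartierIdeal E) (p : Z ⟶ X) (z : Z) :
    ∃ (U : X.affineOpens) (W : Z.affineOpens) (g : Γ(X, U.1)), g ∈ nonZeroDivisors Γ(X, U.1) ∧
      E.ideal U = Ideal.span {g} ∧ W.1 ≤ p ⁻¹ᵁ U.1 ∧ z ∈ W.1 := by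
  obtain ⟨U, hxU, g, hg, hI⟩ := hE (p z)
  obtain ⟨W, hWaff, hzW, hWle⟩ :=
    exists_isAffineOpen_mem_and_subset (x := z) (U := p ⁻¹ᵁ U.1) hxU
  exact ⟨U, ⟨W, hWaff⟩, g, hg, hI, hWle, hzW⟩

end Groth.Agent.BlowAvoidLib
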