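import Groth.Agent.FTIdealLib.Basic
import Groth.Agent.BlowAvoidLib.Core

/-! A finite-type subideal with support inside a prescribed closed set with quasi-compact complement. -/

universe u
open AlgebraicGeometry CategoryTheory

namespace Groth.Agent.BlowAvoidLib

variable {X : Scheme.{u}}

theorem exists_ft_le_support [CompactSpace X] [QuasiSeparatedSpace X] (I : X.IdealSheafData) {T : Set X}
    (hT : IsCompact Tᶜ) (hIT : (I.support : Set X) ⊆ T) :
    ∃ J : X.IdealSheafData, J ≤ I ∧ (∀ V, (J.ideal V).FG) ∧ (J.support : Set X) ⊆ T := by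
  classical
  let κ := {J : X.IdealSheafData // J ≤ I ∧ ∀ V, (J.ideal V).FG}
  have hne : Nonempty κ := ⟨⟨⊥, bot_le, fun V => by
    rw [Scheme.IdealSheafData.ideal_bot]; exact Submodule.fg_bot⟩⟩
  have hcov : Tᶜ ⊆ ⋃ J : κ, (J.1.support : Set X)ᶜ := fun x hx => by
    rw [Set.mem_iUnion]
    by_contra hc
    push Not at hc
    obtain ⟨_, ⟨V, hV, rfl⟩, hxV, -⟩ :=
      X.isBasis_affineOpens.exists_subset_of_mem_open (Set.mem_univ x) isOpen_univ
    have hxI : x ∈ I.support := by
      rw [Scheme.IdealSheafData.mem_support_iff_of_mem (U := ⟨V, hV⟩) hxV, Scheme.mem_zeroLocus_iff]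
      intro a ha
      obtain ⟨J, hJ, hfg, haJ⟩ := FTIdealLib.exists_ft_le_mem I ⟨V, hV⟩ ha
      have := not_not.mp (hc ⟨J, hJ, hfg⟩)
      rw [SetLike.mem_coe, Scheme.IdealSheafData.mem_support_iff_of_mem (U := ⟨V, hV⟩) hxV,
        Scheme.mem_zeroLocus_iff] at this
      exact this a haJ
    exact hx (hIT hxI)
  have hdir : Directed (· ⊆ ·) fun J : κ => (J.1.support : Set X)ᶜ := fun a b =>
    ⟨⟨a.1 ⊔ b.1, sup_le a.2.1 b.2.1, fun V => by
        rw [Scheme.IdealSheafData.ideal_sup, Pi.sup_apply]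
        exact Submodule.FG.sup (a.2.2 V) (b.2.2 V)⟩,
      Set.compl_subset_compl.mpr (Scheme.IdealSheafData.support_antitone le_sup_left),
      Set.compl_subset_compl.mpr (Scheme.IdealSheafData.support_antitone le_sup_right)⟩
  obtain ⟨J, hJ⟩ := hT.elim_directed_cover _ (fun J : κ => J.1.support.isClosed.isOpen_compl) hcov hdir
  exact ⟨J.1, J.2.1, J.2.2, fun x hx => by_contra fun hxT => hJ hxT hx⟩

end Groth.Agent.BlowAvoidLib
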